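import Mathlib

/-!
# Universal injectivity: finitely presented tests and the equational form
-/

set_option autoImplicit false
universe u

open TensorProduct

namespace Groth.Agent.UInjLib

variable {R M N : Type u} [CommRing R] [AddCommGroup M] [Module R M] [AddCommGroup N] [Module R N] (f : M →ₗ[R] N)

theorem exists_ker_lift {S A P F : Type u} [CommRing S] [AddCommGroup A] [Module S A] [AddCommGroup F] [Module S F]
    [AddCommGroup P] [Module S P] (π : F →ₗ[S] P) (hπ : Function.Surjective π) (w : A ⊗[S] F)
    (hw : π.lTensor A w = 0) : ∃ u, (LinearMap.ker π).subtype.lTensor A u = w :=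
  (lTensor_exact A (LinearMap.exact_subtype_ker_map π) hπ w).mp hw

theorem comm_rTensor {S A P F : Type u} [CommRing S] [AddCommGroup A] [Module S A] [AddCommGroup F] [Module S F]
    [AddCommGroup P] [Module S P] (g : F →ₗ[S] P) (t : A ⊗[S] F) :
    g.rTensor A (TensorProduct.comm S A F t) = TensorProduct.comm S A P (g.lTensor A t) := by
  induction t using TensorProduct.induction_on with
  | zero => simp
  | tmul x v => simp
  | add x y hx hy => simp [hx, hy]

theorem exists_fg_stage {S A P : Type u} [CommRing S] [AddCommGroup A] [Module S A] [AddCommGroup P] [Module S P]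
    (Q' : Submodule S P) (hQ' : Q'.FG) (t : A ⊗[S] Q') (ht : Q'.subtype.lTensor A t = 0) :
    ∃ (Q'' : Submodule S P) (hle : Q' ≤ Q''), Q''.FG ∧ (Submodule.inclusion hle).lTensor A t = 0 := by
  obtain ⟨Q'', hle, hfg, h0⟩ := TensorProduct.eq_zero_of_fg_of_subtype_eq_zero hQ'
    (t := TensorProduct.comm S A Q' t) (by rw [comm_rTensor, ht, map_zero])
  refine ⟨Q'', hle, hfg, (TensorProduct.comm S A Q'').injective ?_⟩
  rw [← comm_rTensor, h0, map_zero]

theorem injective_of_fp (h : ∀ (Q : Type u) [AddCommGroup Q] [Module R Q], Module.FinitePresentation R Q →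
    Function.Injective (f.rTensor Q)) (Q : Type u) [AddCommGroup Q] [Module R Q] : Function.Injective (f.rTensor Q) := by
  classical
  rw [injective_iff_map_eq_zero]
  intro z hz
  obtain ⟨Q', hQ', hzQ⟩ := TensorProduct.exists_finite_submodule_right_of_setFinite {z} (Set.finite_singleton z)
  obtain ⟨z', hz'⟩ := hzQ rfl
  obtain ⟨Q'', hle, hfg, h0⟩ := exists_fg_stage Q' (Module.Finite.iff_fg.mp hQ') (f.rTensor Q' z') (by
    rw [← LinearMap.comp_apply, LinearMap.lTensor_comp_rTensor, ← LinearMap.rTensor_comp_lTensor,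
      LinearMap.comp_apply, hz', hz])
  haveI : Module.Finite R Q'' := Module.Finite.iff_fg.mpr hfg
  obtain ⟨k, π, hπ⟩ := Module.Finite.exists_fin' R Q''
  obtain ⟨z₀, hz₀⟩ := LinearMap.lTensor_surjective M hπ ((Submodule.inclusion hle).lTensor M z')
  have hw : π.lTensor N (f.rTensor _ z₀) = 0 := by
    rw [← LinearMap.comp_apply, LinearMap.lTensor_comp_rTensor, ← LinearMap.rTensor_comp_lTensor,
      LinearMap.comp_apply, hz₀, ← LinearMap.comp_apply, LinearMap.rTensor_comp_lTensor,
      ← LinearMap.lTensor_comp_rTensor, LinearMap.comp_apply, h0]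
  obtain ⟨u, hu⟩ := exists_ker_lift π hπ _ hw
  obtain ⟨K₁, hK₁, huK⟩ := TensorProduct.exists_finite_submodule_right_of_setFinite {u} (Set.finite_singleton u)
  obtain ⟨u₁, rfl⟩ := huK rfl
  let K : Submodule R (Fin k → R) := K₁.map (LinearMap.ker π).subtype
  have hfp : Module.FinitePresentation R ((Fin k → R) ⧸ K) :=
    Module.finitePresentation_of_surjective K.mkQ (Submodule.mkQ_surjective K)
      (by rw [Submodule.ker_mkQ]; exact (Module.Finite.iff_fg.mp hK₁).map _)
  have hz₂ : K.mkQ.lTensor M z₀ = 0 := by
    apply h _ hfp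
    rw [map_zero, ← LinearMap.comp_apply, LinearMap.rTensor_comp_lTensor, ← LinearMap.lTensor_comp_rTensor,
      LinearMap.comp_apply, ← hu, ← LinearMap.lTensor_comp_apply, ← LinearMap.lTensor_comp_apply]
    have h0 : (K.mkQ ∘ₗ (LinearMap.ker π).subtype) ∘ₗ K₁.subtype = 0 := LinearMap.ext fun x =>
      (Submodule.Quotient.mk_eq_zero K).mpr ⟨_, x.2, rfl⟩
    rw [h0, LinearMap.lTensor_zero]
    rfl
  have hle2 : K ≤ LinearMap.ker π := Submodule.map_subtype_le _ _
  have hπ0 : (Submodule.inclusion hle).lTensor M z' = 0 := by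
    rw [← hz₀, ← Submodule.liftQ_mkQ K π hle2, LinearMap.lTensor_comp_apply, hz₂, map_zero]
  rw [← hz', ← Submodule.subtype_comp_inclusion Q' Q'' hle, LinearMap.lTensor_comp_apply, hπ0, map_zero]

theorem lTensor_coords {m n : ℕ} (b : (Fin m → R) →ₗ[R] (Fin n → R)) (w : M ⊗[R] (Fin m → R)) (i : Fin n) :
    TensorProduct.piScalarRight R R M (Fin n) (b.lTensor M w) i =
      ∑ j, b (Pi.single j 1) i • TensorProduct.piScalarRight R R M (Fin m) w j := by
  induction w using TensorProduct.induction_on with
  | zero => simp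
  | tmul x v =>
    simp only [LinearMap.lTensor_tmul, TensorProduct.piScalarRight_apply, TensorProduct.piScalarRightHom_tmul]
    rw [show v = ∑ j, v j • Pi.single j (1 : R) from by simp [Pi.single_apply, funext_iff], map_sum]
    simp [Finset.sum_apply, Finset.sum_smul, smul_smul, Pi.single_apply, mul_comm]
  | add x y hx hy =>
    rw [map_add, map_add, Pi.add_apply, hx, hy, ← Finset.sum_add_distrib]
    simp [smul_add]

theorem equational (h : ∀ (Q : Type u) [AddCommGroup Q] [Module R Q], Function.Injective (f.rTensor Q))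
    (n m : ℕ) (x : Fin n → M) (y : Fin m → N) (a : Fin n → Fin m → R) (hxy : ∀ i, f (x i) = ∑ j, a i j • y j) :
    ∃ z : Fin m → M, ∀ i, x i = ∑ j, a i j • z j := by
  classical
  let b : (Fin m → R) →ₗ[R] (Fin n → R) := Fintype.linearCombination R fun j i => a i j
  have hb : ∀ j i, b (Pi.single j 1) i = a i j := fun j i => by simp [b, Fintype.linearCombination_apply_single]
  let q := (LinearMap.range b).mkQ
  let X := (TensorProduct.piScalarRight R R M (Fin n)).symm x
  let Y := (TensorProduct.piScalarRight R R N (Fin m)).symm y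
  have hXY : f.rTensor _ X = b.lTensor N Y := by
    apply (TensorProduct.piScalarRight R R N (Fin n)).injective
    funext i
    rw [lTensor_coords b, LinearEquiv.apply_symm_apply]
    simp only [hb]
    rw [← hxy]
    have hnat : ∀ (z : M ⊗[R] (Fin n → R)),
        TensorProduct.piScalarRight R R N (Fin n) (f.rTensor _ z) i = f (TensorProduct.piScalarRight R R M (Fin n) z i) := fun z => by
      induction z using TensorProduct.induction_on with
      | zero => simp
      | tmul x v => simp [TensorProduct.piScalarRightHom_tmul]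
      | add x y hx hy => rw [map_add, map_add, Pi.add_apply, hx, hy, ← map_add, ← Pi.add_apply, ← map_add]
    rw [hnat, LinearEquiv.apply_symm_apply]
  have h0 : q.lTensor M X = 0 := by
    apply h ((Fin n → R) ⧸ LinearMap.range b)
    rw [map_zero, ← LinearMap.comp_apply, LinearMap.rTensor_comp_lTensor, ← LinearMap.lTensor_comp_rTensor,
      LinearMap.comp_apply, hXY, ← LinearMap.lTensor_comp_apply, show q.comp b = 0 from LinearMap.range_mkQ_comp b,
      LinearMap.lTensor_zero]
    rfl
  obtain ⟨Z, hZ⟩ := (lTensor_exact M (LinearMap.exact_map_mkQ_range b) (Submodule.mkQ_surjective _) X).mp h0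
  refine ⟨TensorProduct.piScalarRight R R M (Fin m) Z, fun i => ?_⟩
  have := congrArg (fun t => TensorProduct.piScalarRight R R M (Fin n) t i) hZ
  simp only [lTensor_coords b, hb] at this
  rw [this, LinearEquiv.apply_symm_apply]

theorem injective_fp_of_equational (h : ∀ (n m : ℕ) (x : Fin n → M) (y : Fin m → N) (a : Fin n → Fin m → R),
    (∀ i, f (x i) = ∑ j, a i j • y j) → ∃ z : Fin m → M, ∀ i, x i = ∑ j, a i j • z j)
    (Q : Type u) [AddCommGroup Q] [Module R Q] (hQ : Module.FinitePresentation R Q) :
    Function.Injective (f.rTensor Q) := by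
  classical
  obtain ⟨n, π, hπ⟩ := Module.Finite.exists_fin' R Q
  haveI : Module.Finite R (LinearMap.ker π) := Module.Finite.iff_fg.mpr (Module.FinitePresentation.fg_ker π hπ)
  obtain ⟨m, b₀, hb₀⟩ := Module.Finite.exists_fin' R (LinearMap.ker π)
  let b := (LinearMap.ker π).subtype.comp b₀
  have hex : Function.Exact b π := LinearMap.exact_iff.mpr (by
    rw [LinearMap.range_comp, LinearMap.range_eq_top.mpr hb₀, Submodule.map_top, Submodule.range_subtype])
  rw [injective_iff_map_eq_zero]
  intro z hz
  obtain ⟨X, rfl⟩ := LinearMap.lTensor_surjective M hπ z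
  have hz' : π.lTensor N (f.rTensor _ X) = 0 := by
    rw [← LinearMap.comp_apply, LinearMap.lTensor_comp_rTensor, ← LinearMap.rTensor_comp_lTensor]
    exact hz
  obtain ⟨Y, hY⟩ := (lTensor_exact N hex hπ _).mp hz'
  let x := TensorProduct.piScalarRight R R M (Fin n) X
  let y := TensorProduct.piScalarRight R R N (Fin m) Y
  obtain ⟨w, hw⟩ := h n m x y (fun i j => b (Pi.single j 1) i) fun i => by
    rw [← lTensor_coords b Y i, hY]
    have hnat : ∀ (z : M ⊗[R] (Fin n → R)),
        TensorProduct.piScalarRight R R N (Fin n) (f.rTensor _ z) i = f (TensorProduct.piScalarRight R R M (Fin n) z i) := fun z => by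
      induction z using TensorProduct.induction_on with
      | zero => simp
      | tmul x v => simp [TensorProduct.piScalarRightHom_tmul]
      | add x y hx hy => rw [map_add, map_add, Pi.add_apply, hx, hy, ← map_add, ← Pi.add_apply, ← map_add]
    rw [hnat]
  have hX : X = b.lTensor M ((TensorProduct.piScalarRight R R M (Fin m)).symm w) := by
    apply (TensorProduct.piScalarRight R R M (Fin n)).injective
    funext i
    rw [lTensor_coords b, LinearEquiv.apply_symm_apply]
    exact hw i
  rw [hX, ← LinearMap.lTensor_comp_apply, hex.linearMap_comp_eq_zero, LinearMap.lTensor_zero]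
  rfl

end Groth.Agent.UInjLib
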